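import Groth.Agent.Lib.KFlat.Pullback
import Groth.Agent.Lib.Residual14.OnePoint
import Groth.Agent.Lib.DPerf.Top

/-!
# Locally split monomorphisms are detected on residue fields
-/

set_option autoImplicit false
set_option backward.isDefEq.respectTransparency false
set_option linter.style.haveILetI false

universe u

open AlgebraicGeometry CategoryTheory CategoryTheory.Limits
open scoped TensorProduct

namespace Groth.Agent.FibreSplit32

open Groth.Agent.M2 Groth.Agent.KFlat.Sch

theorem stk_eq {X : Scheme.{u}} {A B : X.Modules} (g : A ⟶ B) (x : X) (a : A.presheaf.stalk x) :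
    stk g x a = (M1.stalkAb x).map g a := rfl

theorem finite_stalk_ft {X : Scheme.{u}} {M : X.Modules} (hM : CohB1.IsFT M) (x : X) :
    Module.Finite (X.presheaf.stalk x) (M.presheaf.stalk x) := by
  obtain ⟨U, hxU, σ, hσ⟩ := (M1.isFT_iff_generators M).1 hM x
  haveI := hσ
  obtain ⟨e⟩ := M1.nonempty_fr_freeMod (U : Scheme.{u}) σ.I
  let y : (U : Scheme.{u}) := ⟨x, hxU⟩
  have hP := KFlat.Sch.isFinLocFree_freeMod (U : Scheme.{u}) (Nat.card σ.I)
  have hPfp := M1.isFP_of_isFinLocFree hP
  haveI := M1.finite_stalk (M1.isFP_isQCoh hPfp) (M1.isFP_isFT hPfp) y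
  haveI : Epi σ.π := σ.epi
  let p := e.inv ≫ σ.π ≫ ((Scheme.Modules.restrictFunctorIsoPullback U.ι).app M).hom
  haveI : Epi p := inferInstance
  have hs : Function.Surjective (stk p y) := (M1.epi_iff_stalk p).1 inferInstance y
  haveI : Module.Finite _ (((Scheme.Modules.pullback U.ι).obj M).presheaf.stalk y : Type u) :=
    Module.Finite.of_surjective _ hs
  haveI := Module.Finite.equiv (pullStalkEquiv U.ι y M).symm
  have hb : Function.Bijective (algebraMap (X.presheaf.stalk (U.ι y)) ((U : Scheme.{u}).presheaf.stalk y)) :=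
    ConcreteCategory.bijective_of_isIso (U.ι.stalkMap y)
  haveI : Module.Finite (X.presheaf.stalk (U.ι y)) ((U : Scheme.{u}).presheaf.stalk y) :=
    Module.Finite.of_surjective (Algebra.linearMap _ _) hb.2
  haveI : Module.Finite (X.presheaf.stalk (U.ι y)) (BC U.ι y M) :=
    Module.Finite.trans ((U : Scheme.{u}).presheaf.stalk y) _
  let q : (M.presheaf.stalk (U.ι y) : Type u) ≃ₗ[X.presheaf.stalk (U.ι y)] BC U.ι y M :=
    (TensorProduct.lid _ _).symm ≪≫ₗ
      TensorProduct.congr (LinearEquiv.ofBijective (Algebra.linearMap _ _) hb) (LinearEquiv.refl _ _)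
  exact (Module.Finite.equiv q.symm : Module.Finite (X.presheaf.stalk (U.ι y)) (M.presheaf.stalk (U.ι y) : Type u))

theorem isFP_cokernel_ft {X : Scheme.{u}} {U E : X.Modules} (hU : CohB1.IsFT U) (hE : FlatMod.IsFinLocFree E)
    (ι : U ⟶ E) : CohB1.IsFP (cokernel ι) := by
  choose W hxW σ hσ using (M1.isFT_iff_generators U).1 hU
  refine M1.isFP_of_openImmersion_cover (fun x => (W x).ι) (fun x => ⟨x, ⟨x, hxW x⟩, rfl⟩) fun x => ?_
  haveI := hσ x
  obtain ⟨e⟩ := M1.nonempty_fr_freeMod (W x : Scheme.{u}) (σ x).I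
  haveI : Epi (σ x).π := (σ x).epi
  let F := Scheme.Modules.pullback (W x).ι
  let p := e.inv ≫ (σ x).π ≫ ((Scheme.Modules.restrictFunctorIsoPullback (W x).ι).app U).hom
  haveI : Epi p := inferInstance
  have hPfp := M1.isFP_of_isFinLocFree
    (KFlat.Sch.isFinLocFree_freeMod (W x : Scheme.{u}) (Nat.card (σ x).I))
  have h := DPerf.isFP_cokernel (M1.isFP_isQCoh hPfp) (M1.isFP_isFT hPfp)
    (M1.isFP_of_isFinLocFree (M2.isFinLocFree_pullback (W x).ι hE)) (p ≫ F.map ι)
  exact M1.isFP_of_isIso (cokernelEpiComp p (F.map ι) ≪≫ (PreservesCokernel.iso F ι).symm ≪≫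
    ((Scheme.Modules.restrictFunctorIsoPullback (W x).ι).app (cokernel ι)).symm) h

theorem injective_residue_of_mono {S T : Scheme.{u}} {U E : S.Modules} (ι : U ⟶ E) (f : T ⟶ S) (y : T)
    (hfield : IsField (T.presheaf.stalk y)) [Mono ((Scheme.Modules.pullback f).map ι)] :
    Function.Injective ((stk ι (f y)).lTensor (IsLocalRing.ResidueField (S.presheaf.stalk (f y)))) := by
  let K := T.presheaf.stalk y
  have key : Function.Injective ((stk ι (f y)).lTensor K) := by
    intro a b hab
    apply (pullStalkEquiv f y U).injective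
    apply (KFlat.Sch.mono_iff_stalk ((Scheme.Modules.pullback f).map ι)).1 inferInstance y
    rw [pullStalkEquiv_naturality, pullStalkEquiv_naturality, hab]
  let A := S.presheaf.stalk (f y)
  letI := hfield.toField
  haveI : IsLocalHom (algebraMap A K) := inferInstanceAs (IsLocalHom (f.stalkMap y).hom)
  letI : Algebra (IsLocalRing.ResidueField A) K :=
    (Ideal.Quotient.lift (IsLocalRing.maximalIdeal A) (algebraMap A K) fun a ha =>
      by_contra fun h => ((IsLocalRing.mem_maximalIdeal a).1 ha)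
        (IsUnit.of_map (algebraMap A K) a (isUnit_iff_ne_zero.2 h))).toAlgebra
  haveI : IsScalarTower A (IsLocalRing.ResidueField A) K :=
    IsScalarTower.of_algebraMap_eq fun _ => rfl
  let l := Algebra.linearMap (IsLocalRing.ResidueField A) K
  obtain ⟨ρ, hρ⟩ := l.exists_leftInverse_of_injective
    (LinearMap.ker_eq_bot.2 (algebraMap (IsLocalRing.ResidueField A) K).injective)
  let e := l.restrictScalars A
  let ρ' := ρ.restrictScalars A
  have hρ' : ∀ c, ρ' (e c) = c := fun c => LinearMap.congr_fun hρ c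
  have hn : ∀ z, (stk ι (f y)).lTensor K (e.rTensor _ z) = e.rTensor _ ((stk ι (f y)).lTensor _ z) :=
    fun z => by
    induction z using TensorProduct.induction_on with
    | zero => simp only [map_zero]
    | tmul c m => rfl
    | add p q hp hq => simp only [map_add, hp, hq]
  have hl : Function.LeftInverse (ρ'.rTensor (U.presheaf.stalk (f y) : Type u))
      (e.rTensor (U.presheaf.stalk (f y) : Type u)) := fun z => by
    induction z using TensorProduct.induction_on with
    | zero => simp only [map_zero]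
    | tmul c m => simp only [LinearMap.rTensor_tmul, hρ']
    | add p q hp hq => simp only [map_add, hp, hq]
  intro a b hab
  exact hl.injective (key (by rw [hn, hn, hab]))

theorem injective_residue {S : Scheme.{u}} {U E : S.Modules} (ι : U ⟶ E) (s : S)
    [Mono ((Scheme.Modules.pullback (S.fromSpecResidueField s)).map ι)] :
    Function.Injective ((stk ι s).lTensor (IsLocalRing.ResidueField (S.presheaf.stalk s))) := by
  have h := injective_residue_of_mono ι (S.fromSpecResidueField s) (IsLocalRing.closedPoint _)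
    (Residual14.isField_stalk_of_etale_field (𝟙 (Spec (CommRingCat.of (S.residueField s)))) _)
  rwa [Scheme.fromSpecResidueField_apply] at h

theorem mono_and_isFinLocFree {S : Scheme.{u}} {U E : S.Modules} (hU : CohB1.IsFT U)
    (hE : FlatMod.IsFinLocFree E) (ι : U ⟶ E)
    (h : ∀ s : S, Function.Injective ((stk ι s).lTensor (IsLocalRing.ResidueField (S.presheaf.stalk s)))) :
    Mono ι ∧ FlatMod.IsFinLocFree (cokernel ι) := by
  have hEfp := M1.isFP_of_isFinLocFree hE
  refine ⟨(KFlat.Sch.mono_iff_stalk ι).2 fun x => ?_,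
    (M1.isFinLocFree_iff _).2 ⟨isFP_cokernel_ft hU hE ι, fun x => ?_⟩⟩
  · haveI := finite_stalk_ft hU x
    haveI := M1.finite_stalk (M1.isFP_isQCoh hEfp) (M1.isFP_isFT hEfp) x
    haveI := ((M1.isFinLocFree_iff E).1 hE).2 x
    obtain ⟨l, hl⟩ := (IsLocalRing.split_injective_iff_lTensor_residueField_injective (stk ι x)).2
      (h x)
    exact (Function.LeftInverse.injective (g := l) (LinearMap.congr_fun hl) : Function.Injective (stk ι x))
  · haveI := finite_stalk_ft hU x
    haveI := M1.finite_stalk (M1.isFP_isQCoh hEfp) (M1.isFP_isFT hEfp) x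
    haveI := ((M1.isFinLocFree_iff E).1 hE).2 x
    let C := ShortComplex.mk ι (cokernel.π ι) (cokernel.condition ι)
    have hex : C.Exact := C.exact_of_g_is_cokernel (cokernelIsCokernel ι)
    have hx := M1.exact_iff_stalk C |>.1 hex x
    exact Module.free_of_lTensor_residueField_injective (stk ι x) (stk (cokernel.π ι) x)
      ((M1.epi_iff_stalk _).1 inferInstance x)
      ((ShortComplex.ab_exact_iff_function_exact _).1 hx) (h x)

/-- Some retraction exists after pulling back along `j`. -/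
def SplitOn {X T : Scheme.{u}} {F V : X.Modules} (j : T ⟶ X) (v : F ⟶ V) : Prop :=
  ∃ r : (Scheme.Modules.pullback j).obj V ⟶ (Scheme.Modules.pullback j).obj F,
    (Scheme.Modules.pullback j).map v ≫ r = 𝟙 _

theorem retraction_congr {C D : Type*} [Category C] [Category D] {G H : C ⥤ D} (α : G ≅ H) {A B : C}
    (v : A ⟶ B) (h : ∃ r, G.map v ≫ r = 𝟙 _) : ∃ r, H.map v ≫ r = 𝟙 _ := by
  obtain ⟨r, hr⟩ := h
  refine ⟨α.inv.app B ≫ r ≫ α.hom.app A, ?_⟩
  rw [← Category.assoc, α.inv.naturality, Category.assoc, ← Category.assoc (G.map v), hr,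
    Category.id_comp, α.inv_hom_id_app]

theorem SplitOn.comp {X Y T : Scheme.{u}} {F V : X.Modules} {j : Y ⟶ X} {v : F ⟶ V}
    (h : SplitOn j v) (g : T ⟶ Y) {l : T ⟶ X} (hl : g ≫ j = l) : SplitOn l v := by
  obtain ⟨r, hr⟩ := h
  refine retraction_congr (Scheme.Modules.pullbackComp g j ≪≫ Scheme.Modules.pullbackCongr hl) v
    ⟨(Scheme.Modules.pullback g).map r, ?_⟩
  exact ((Scheme.Modules.pullback g).map_comp _ _).symm.trans
    ((congrArg _ hr).trans ((Scheme.Modules.pullback g).map_id _))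

theorem SplitOn.pull {X Y : Scheme.{u}} {F V : X.Modules} {v : F ⟶ V} {U : X.Opens}
    (h : SplitOn U.ι v) (g : Y ⟶ X) :
    SplitOn (g ⁻¹ᵁ U).ι ((Scheme.Modules.pullback g).map v) :=
  retraction_congr (Scheme.Modules.pullbackComp (g ⁻¹ᵁ U).ι g).symm v
    (h.comp (g ∣_ U) (morphismRestrict_ι g U))

theorem injective_residue_of_splitOn {X T : Scheme.{u}} {F V : X.Modules} {v : F ⟶ V} (g : T ⟶ X)
    (U : T.Opens) (z : T) (hz : z ∈ U) (h : SplitOn U.ι ((Scheme.Modules.pullback g).map v)) :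
    Function.Injective ((stk v (g z)).lTensor (IsLocalRing.ResidueField (X.presheaf.stalk (g z)))) := by
  let a := (U : Scheme.{u}).fromSpecResidueField ⟨z, hz⟩
  have h1 : SplitOn (U.ι ≫ g) v := retraction_congr (Scheme.Modules.pullbackComp U.ι g) v h
  obtain ⟨r, hr⟩ := h1.comp a (rfl : a ≫ U.ι ≫ g = _)
  haveI : Mono ((Scheme.Modules.pullback (a ≫ U.ι ≫ g)).map v) :=
    (SplitMono.mk r hr).mono
  have h2 := injective_residue_of_mono v (a ≫ U.ι ≫ g) (IsLocalRing.closedPoint _)
    (Residual14.isField_stalk_of_etale_field (𝟙 (Spec (CommRingCat.of ((U : Scheme.{u}).residueField ⟨z, hz⟩)))) _)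
  have e : (a ≫ U.ι ≫ g) (IsLocalRing.closedPoint _) = g z := by
    show g (U.ι (a _)) = g z
    rw [Scheme.fromSpecResidueField_apply]
    rfl
  rwa [e] at h2

theorem splitOn_of_injective_residue {X : Scheme.{u}} {F V : X.Modules} (hF : CohB1.IsFT F)
    (hV : FlatMod.IsFinLocFree V) (v : F ⟶ V)
    (h : ∀ s : X, Function.Injective ((stk v s).lTensor (IsLocalRing.ResidueField (X.presheaf.stalk s))))
    (x : X) : ∃ U : X.Opens, x ∈ U ∧ SplitOn U.ι v := by
  obtain ⟨_, hQ⟩ := mono_and_isFinLocFree hF hV v h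
  obtain ⟨W, n, hxW, ⟨e⟩⟩ := hQ x
  obtain ⟨e'⟩ := M1.nonempty_fr_freeMod (W : Scheme.{u}) (ULift.{u} (Fin n))
  let R := Scheme.Modules.restrictFunctor W.ι
  have hn : Nat.card (ULift.{u} (Fin n)) = n := by simp
  let φ : R.obj V ⟶ M1.fr (ULift.{u} (Fin n)) :=
    R.map (cokernel.π v) ≫ e.hom ≫ eqToHom (congrArg (FlatMod.freeMod (W : Scheme.{u})) hn.symm) ≫ e'.inv
  haveI : Epi φ := inferInstance
  obtain ⟨Z, hxZ, hZ⟩ := M1.exists_lift_fr φ (𝟙 _) ⟨x, hxW⟩
  obtain ⟨a, ha⟩ := hZ Z le_rfl
  let R' := Scheme.Modules.restrictFunctor Z.ι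
  have ha' : a ≫ R'.map φ = 𝟙 _ := ha.trans (R'.map_id _)
  let C := ((ShortComplex.mk v (cokernel.π v) (cokernel.condition v)).map R).map R'
  let S0 := ShortComplex.mk v (cokernel.π v) (cokernel.condition v)
  have hS0 : S0.ShortExact := { exact := S0.exact_of_g_is_cokernel (cokernelIsCokernel v) }
  have hC : C.ShortExact := (hS0.map_of_exact R).map_of_exact R'
  let iE : R.obj (cokernel v) ≅ M1.fr (ULift.{u} (Fin n)) :=
    e ≪≫ eqToIso (congrArg (FlatMod.freeMod (W : Scheme.{u})) hn.symm) ≪≫ e'.symm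
  let s : C.X₃ ⟶ C.X₂ := R'.map iE.hom ≫ a
  have hs : s ≫ C.g = 𝟙 _ := by
    show (R'.map iE.hom ≫ a) ≫ R'.map (R.map (cokernel.π v)) = 𝟙 _
    rw [← cancel_mono (R'.map iE.hom), Category.id_comp, Category.assoc, Category.assoc, ← R'.map_comp,
      show R.map (cokernel.π v) ≫ iE.hom = φ from rfl, ha', Category.comp_id]
  haveI := hC.mono_f
  let sp := ShortComplex.Splitting.ofExactOfSection C hC.exact s hs inferInstance
  have h1 : SplitOn (Z.ι ≫ W.ι) v :=
    retraction_congr (Functor.isoWhiskerRight (Scheme.Modules.restrictFunctorIsoPullback W.ι) R' ≪≫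
      Functor.isoWhiskerLeft _ (Scheme.Modules.restrictFunctorIsoPullback Z.ι) ≪≫
      Scheme.Modules.pullbackComp Z.ι W.ι) v ⟨sp.r, sp.f_r⟩
  refine ⟨(Z.ι ≫ W.ι).opensRange, ⟨⟨⟨x, hxW⟩, hxZ⟩, rfl⟩,
    h1.comp (Z.ι ≫ W.ι).isoOpensRange.inv (Scheme.Hom.isoOpensRange_inv_comp _)⟩

end Groth.Agent.FibreSplit32
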